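import Mathlib

/-!
The limit ring of an adic tower of surjections.
-/

universe u

namespace Groth.Agent.FSchAffineLib

variable (R : ℕ → Type u) [∀ n, CommRing (R n)] (t : ∀ n, R (n + 1) →+* R n)

/-- Compatible families. -/
def limRing : Subring (Π n, R n) where
  carrier := {x | ∀ n, t n (x (n + 1)) = x n}
  mul_mem' ha hb n := by simp only [Pi.mul_apply, map_mul, ha n, hb n]
  one_mem' n := by simp
  add_mem' ha hb n := by simp only [Pi.add_apply, map_add, ha n, hb n]
  zero_mem' n := by simp
  neg_mem' ha n := by simp only [Pi.neg_apply, map_neg, ha n]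

def proj (n : ℕ) : limRing R t →+* R n := (Pi.evalRingHom R n).comp (limRing R t).subtype

theorem t_proj (n : ℕ) (x : limRing R t) : t n (proj R t (n + 1) x) = proj R t n x := x.2 n

theorem proj_ext {x y : limRing R t} (h : ∀ n, proj R t n x = proj R t n y) : x = y :=
  Subtype.ext (funext h)

theorem proj_eq_zero_of_le {x : limRing R t} {n m : ℕ} (hnm : n ≤ m) (h : proj R t m x = 0) :
    proj R t n x = 0 := by
  induction hnm with
  | refl => exact h
  | step _ ih => exact ih (by rw [← t_proj, h, map_zero])

theorem proj_surjective (ht : ∀ n, Function.Surjective (t n)) (n : ℕ) :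
    Function.Surjective (proj R t n) := by
  have key : ∀ (n : ℕ) (R' : ℕ → Type u) [∀ k, CommRing (R' k)] (t' : ∀ k, R' (k + 1) →+* R' k),
      (∀ k, Function.Surjective (t' k)) → ∀ r : R' n, ∃ x : ∀ k, R' k, (∀ k, t' k (x (k + 1)) = x k) ∧ x n = r := by
    intro n
    induction n with
    | zero =>
      intro R' _ t' ht' r
      choose s hs using ht'
      exact ⟨fun k => Nat.rec r (fun k y => s k y) k, fun k => hs k _, rfl⟩
    | succ n ih =>
      intro R' _ t' ht' r
      obtain ⟨x, hx, hxn⟩ := ih (fun k => R' (k + 1)) (fun k => t' (k + 1)) (fun k => ht' (k + 1)) r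
      refine ⟨fun k => Nat.casesOn k (t' 0 (x 0)) x, fun k => ?_, hxn⟩
      cases k with
      | zero => rfl
      | succ k => exact hx k
  intro r
  obtain ⟨x, hx, hxn⟩ := key n R t ht r
  exact ⟨⟨x, hx⟩, hxn⟩

/-- In an adic tower with finitely generated `ker(R 1 → R 0)` the kernels of the projections are the powers
of the finitely generated first kernel. -/
theorem ker_proj (ht : ∀ n, Function.Surjective (t n))
    (hpow : ∀ n, RingHom.ker (proj R t 0) ^ (n + 1) ≤ RingHom.ker (proj R t n))
    (hker : ∀ n, RingHom.ker (proj R t n) ≤ RingHom.ker (proj R t 0) ^ (n + 1) ⊔ RingHom.ker (proj R t (n + 1)))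
    (hfg : (RingHom.ker (t 0)).FG) :
    (RingHom.ker (proj R t 0)).FG ∧
      ∀ n, RingHom.ker (proj R t n) = RingHom.ker (proj R t 0) ^ (n + 1) := by
  classical
  set J := RingHom.ker (proj R t 0) with hJ
  obtain ⟨s, hs⟩ := hfg
  choose g hg using proj_surjective R t ht 1
  let G : Ideal (limRing R t) := Ideal.span (s.image g : Finset _)
  have hGJ : G ≤ J := by
    refine Ideal.span_le.2 ?_
    intro y hy
    obtain ⟨a, ha, rfl⟩ := Finset.mem_image.1 hy
    show proj R t 0 (g a) = 0
    rw [← t_proj, hg, ← RingHom.mem_ker, ← hs]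
    exact Ideal.subset_span ha
  have hJG : J ≤ G ⊔ RingHom.ker (proj R t 1) := by
    intro x hx
    have h1 : proj R t 1 x ∈ G.map (proj R t 1) := by
      have h2 : proj R t 1 x ∈ RingHom.ker (t 0) := by rw [RingHom.mem_ker, t_proj]; exact hx
      rw [← hs] at h2
      refine (show Ideal.span (s : Set (R 1)) ≤ G.map (proj R t 1) from Ideal.span_le.2 fun a ha => ?_) h2
      rw [← hg a]
      exact Ideal.mem_map_of_mem _ (Ideal.subset_span (Finset.mem_image_of_mem g ha))
    obtain ⟨z, hz, hzx⟩ := (Ideal.mem_map_iff_of_surjective _ (proj_surjective R t ht 1)).1 h1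
    rw [← add_sub_cancel z x]
    exact add_mem (Ideal.mem_sup_left hz) (Ideal.mem_sup_right (by rw [RingHom.mem_ker, map_sub, hzx, sub_self]))
  have hker' : ∀ n m, n ≤ m → RingHom.ker (proj R t n) ≤ J ^ (n + 1) ⊔ RingHom.ker (proj R t m) := by
    intro n m hnm
    induction hnm with
    | refl => exact le_sup_right
    | @step m hm ih =>
      refine ih.trans (sup_le le_sup_left ((hker m).trans (sup_le_sup ?_ le_rfl)))
      exact Ideal.pow_le_pow_right (Nat.succ_le_succ hm)
  have hmulJ : ∀ N, J * RingHom.ker (proj R t N) ≤ RingHom.ker (proj R t (N + 1)) := by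
    intro N
    refine (Ideal.mul_mono_right (hker N)).trans ?_
    rw [Ideal.mul_sup, ← pow_succ']
    exact sup_le (hpow (N + 1)) Ideal.mul_le_right
  have hJG' : ∀ N, J ^ (N + 1) ≤ G ^ (N + 1) ⊔ RingHom.ker (proj R t (N + 1)) := by
    intro N
    induction N with
    | zero => simpa using hJG
    | succ N ih =>
      rw [pow_succ' J]
      calc J * J ^ (N + 1) ≤ (G ⊔ RingHom.ker (proj R t 1)) * J ^ (N + 1) := Ideal.mul_mono_left hJG
        _ ≤ G ^ (N + 1 + 1) ⊔ RingHom.ker (proj R t (N + 1 + 1)) := by
          rw [Ideal.sup_mul]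
          refine sup_le ?_ ?_
          · refine (Ideal.mul_mono_right ih).trans ?_
            rw [Ideal.mul_sup, ← pow_succ']
            exact sup_le_sup le_rfl ((Ideal.mul_mono_left hGJ).trans (hmulJ (N + 1)))
          · refine le_sup_of_le_right ((Ideal.mul_mono_left (hker' 1 (N + 1 + 1) (by omega))).trans ?_)
            rw [Ideal.sup_mul, ← pow_add]
            exact sup_le ((Ideal.pow_le_pow_right (by omega)).trans (hpow (N + 1 + 1))) Ideal.mul_le_left
  have step : ∀ N, RingHom.ker (proj R t N) ≤ G ^ (N + 1) ⊔ RingHom.ker (proj R t (N + 1)) := fun N =>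
    (hker N).trans (sup_le (hJG' N) le_sup_right)
  have main : ∀ n, RingHom.ker (proj R t n) ≤ G ^ (n + 1) := by
    intro n x hx
    obtain ⟨S, hS⟩ : (G ^ (n + 1)).FG := Ideal.FG.pow (Submodule.fg_span (Finset.finite_toSet _))
    have hy : ∀ k z, z ∈ RingHom.ker (proj R t (n + k)) →
        ∃ c : S → limRing R t, (∀ i, c i ∈ G ^ k) ∧ z - ∑ i : S, c i * i.1 ∈ RingHom.ker (proj R t (n + (k + 1))) := by
      intro k z hz
      obtain ⟨y, hy, z', hz', rfl⟩ := Submodule.mem_sup.1 (step (n + k) hz)
      rw [show n + k + 1 = k + (n + 1) by omega, pow_add, ← hS] at hy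
      have hy' : y ∈ (G ^ k) • Ideal.span (Set.range fun i : S => (i.1 : limRing R t)) := by
        rw [smul_eq_mul]
        convert hy using 3
        ext a
        simp
      obtain ⟨c, hc, hcy⟩ := (Submodule.mem_ideal_smul_span_iff_exists_sum _ _ _).1 hy'
      refine ⟨fun i => c i, hc, ?_⟩
      have e : ∑ i : S, c i * (i.1 : limRing R t) = y := by
        rw [← hcy, Finsupp.sum_fintype _ _ (by simp)]
        rfl
      rw [e, add_sub_cancel_left]
      exact hz'
    choose! c hc hc' using hy
    let xs : ℕ → limRing R t := fun k => Nat.rec x (fun k z => z - ∑ i : S, c k z i * i.1) k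
    have hxs : ∀ k, xs k ∈ RingHom.ker (proj R t (n + k)) := by
      intro k
      induction k with
      | zero => exact hx
      | succ k ih => exact hc' k _ ih
    have hcG : ∀ k i, c k (xs k) i ∈ G ^ k := fun k i => hc k _ (hxs k) i
    let C : S → limRing R t := fun i => ⟨fun m => proj R t m (∑ k ∈ Finset.range (m + 1), c k (xs k) i), fun m => by
      show t m (proj R t (m + 1) _) = proj R t m _
      rw [t_proj, Finset.sum_range_succ _ (m + 1), map_add,
        show proj R t m (c (m + 1) (xs (m + 1)) i) = 0 from hpow m ((Ideal.pow_right_mono hGJ _) (hcG (m + 1) i)),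
        add_zero]⟩
    have htel : ∀ m, ∑ i : S, (∑ k ∈ Finset.range m, c k (xs k) i) * i.1 = x - xs m := by
      intro m
      induction m with
      | zero => simp [xs]
      | succ m ih =>
        simp only [Finset.sum_range_succ, add_mul, Finset.sum_add_distrib, ih]
        show _ = x - (xs m - ∑ i : S, c m (xs m) i * i.1)
        abel
    have hx' : x = ∑ i : S, C i * i.1 := by
      refine proj_ext R t fun m => ?_
      have h1 := congrArg (proj R t m) (htel (m + 1))
      rw [map_sub, proj_eq_zero_of_le R t (show m ≤ n + (m + 1) by omega) (hxs (m + 1)), sub_zero] at h1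
      rw [← h1, map_sum, map_sum]
      refine Finset.sum_congr rfl fun i _ => ?_
      rw [map_mul, map_mul]
      rfl
    rw [hx']
    refine Ideal.sum_mem _ fun i _ => Ideal.mul_mem_left _ _ ?_
    rw [← hS]
    exact Ideal.subset_span i.2
  refine ⟨?_, fun n => le_antisymm ((main n).trans (Ideal.pow_right_mono hGJ _)) (hpow n)⟩
  have : J = G := le_antisymm (by simpa using main 0) hGJ
  rw [this]
  exact Submodule.fg_span (Finset.finite_toSet _)

theorem isAdicComplete {J : Ideal (limRing R t)} (hJ : ∀ n, RingHom.ker (proj R t n) = J ^ (n + 1)) :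
    IsAdicComplete J (limRing R t) := by
  haveI : IsHausdorff J (limRing R t) := ⟨fun x hx => proj_ext R t fun n => by
    have := hx (n + 1)
    rw [SModEq.zero, smul_eq_mul, Ideal.mul_top, ← hJ, RingHom.mem_ker] at this
    rw [this, map_zero]⟩
  haveI : IsPrecomplete J (limRing R t) := ⟨fun f hf => by
    have hf' : ∀ m k, m + 1 ≤ k → proj R t m (f (m + 1)) = proj R t m (f k) := by
      intro m k hk
      have := hf hk
      rw [SModEq.sub_mem, smul_eq_mul, Ideal.mul_top, ← hJ, RingHom.mem_ker, map_sub, sub_eq_zero] at this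
      exact this
    refine ⟨⟨fun m => proj R t m (f (m + 1)), fun m => ?_⟩, fun k => ?_⟩
    · show t m (proj R t (m + 1) (f (m + 1 + 1))) = _
      rw [t_proj]
      exact (hf' m (m + 1 + 1) (by omega)).symm
    · rw [SModEq.sub_mem, smul_eq_mul, Ideal.mul_top]
      cases k with
      | zero => simp
      | succ k =>
        rw [← hJ, RingHom.mem_ker, map_sub, sub_eq_zero]
        rfl⟩
  exact ⟨⟩

end Groth.Agent.FSchAffineLib
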